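import Cfsg.Agent.Lib.Sporadic.Fi23Out.Data
import Cfsg.Agent.Lib.Sporadic.Fi23SylowTwo.Data
import Cfsg.Agent.Lib.Sporadic.Fi23Data.Fi23WordE7

/-!
Checks for the outer automorphism group of Fi23.
-/

set_option autoImplicit false

namespace CfsgLib.Sporadic.CosetCert.Fi23P.OutFi

open Fi23Data (table forestH fastRows prodE7)
open Two (genPts)

/-- A power of the word of order thirteen. -/
def tPow (i : ℕ) : List ℕ := (List.replicate i tW).flatten

/-- The word of a transposition, from half of it and the middle letter. -/
def fullWord (h : List ℕ × ℕ) : List ℕ := h.1 ++ h.2 :: h.1.reverse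

/-- The word of the transposition of one of the three points. -/
def tripWord (k : ℕ) : List ℕ := fullWord (tripHalf.getD k ([], 0))

/-- A word carries the point to the point of a generator. -/
noncomputable def halfK (p : ℕ) (h : List ℕ × ℕ) : Bool :=
  Nat.blt h.2 10 && h.1.all (fun x => Nat.blt x 10) && Nat.beq (table.imgW h.1 p) (genPts.getD h.2 31671)

/-- The three points are moved as in the symmetric group of degree three. -/
noncomputable def tripK : Bool :=
  (List.range 3).all fun c => halfK (trip.getD c 31671) (tripHalf.getD c ([], 0)) &&
    Nat.beq (table.imgW tW (trip.getD c 31671)) (trip.getD c 31671) &&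
    (List.range 3).all fun k => Nat.beq (table.imgW (tripWord c) (trip.getD k 31671))
      (trip.getD (bif Nat.beq k c then k else 3 - c - k) 31671)

/-- The rows of a word. -/
noncomputable def rowsOf (w : List ℕ) : List (ℕ → ℕ) := w.map fun x => fastRows.getD x id

/-- Only the three points are fixed by the element of order thirteen. -/
noncomputable def fixTK (s n : ℕ) : Bool :=
  (List.range n).all fun i =>
    !(Nat.beq (PTab.runL (rowsOf tW) (s + i)) (s + i)) || trip.contains (s + i)

/-- The candidates are the points commuting with the first point and not with the second. -/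
noncomputable def scanK (s n : ℕ) : Bool :=
  (List.range n).all fun i =>
    !(Nat.beq (PTab.runL (List.replicate 9 prodE7) (s + i)) (s + i)) || Nat.beq (s + i) 0 ||
      Nat.beq (PTab.runL (rowsOf (tripWord 1)) (s + i)) (s + i) || Nat.testBit candB (s + i)

/-- The thirteen images of a point, as a set in binary. -/
noncomputable def orbBits (v : ℕ) : ℕ :=
  (List.range 13).foldr (fun i acc => Nat.lor (Nat.shiftLeft 1 (table.imgW (tPow i) v)) acc) 0

/-- The set of candidates is the union of the orbits of the representatives. -/
noncomputable def candK : Bool := Nat.beq (reps.foldr (fun r acc => Nat.lor (orbBits r.1) acc) 0) candB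

/-- The words of the representatives. -/
noncomputable def repK : Bool := reps.all fun r => Nat.blt r.1 31671 && halfK r.1 r.2

/-- The three tests, read through the power of the element of order thirteen. -/
noncomputable def testK (j : ℕ) (r : ℕ × List ℕ × ℕ) : Bool :=
  let w := fullWord r.2
  let a := table.imgW (tripWord 1) (table.imgW (tPow (j * 5 % 13)) r.1)
  let b := table.imgW (tPow (j * 4 % 13)) r.1
  let c := table.imgW (tPow (j % 13)) (table.imgW w (table.imgW (tPow (j % 13)) r.1))
  Nat.beq (table.imgW w a) a && Nat.beq (table.imgW w b) b && Nat.beq (table.imgW w c) c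

/-- Only the original point passes the tests. -/
noncomputable def uniqueK : Bool :=
  [1, 2].all fun j => reps.all fun r => !(testK j r) || (Nat.beq j 1 && Nat.beq r.1 (genPts.getD 0 0))

/-- The original point passes the tests. -/
noncomputable def selfK : Bool :=
  let s := genPts.getD 0 0
  let a := table.imgW (tripWord 1) (table.imgW (tPow 5) s)
  let b := table.imgW (tPow 4) s
  let c := table.imgW (tPow 1) (table.imgW [0] (table.imgW (tPow 1) s))
  Nat.beq (table.imgW [0] a) a && Nat.beq (table.imgW [0] b) b && Nat.beq (table.imgW [0] c) c &&
    Nat.beq (table.imgW (tripWord 0) s) s && !(Nat.beq (table.imgW (tripWord 1) s) s)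

/-- The list of points ends with those of the generators and is derived from the first sixteen. -/
noncomputable def closK : Bool :=
  (List.range 3).all (fun k => Nat.beq (closPts.getD k 31671) (trip.getD k 31671)) &&
    (List.range 13).all (fun i =>
      Nat.beq (closPts.getD (3 + i) 31671) (table.imgW (tPow i) (genPts.getD 0 0))) &&
    (List.range 28).all (fun m =>
      let d := closDer.getD m (44, 44)
      Nat.blt d.1 (16 + m) && Nat.blt d.2 (16 + m) &&
        halfK (closPts.getD d.1 31671) (closHalf.getD d.1 ([], 0)) &&
          Nat.beq (table.imgW (fullWord (closHalf.getD d.1 ([], 0))) (closPts.getD d.2 31671))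
            (closPts.getD (16 + m) 31671)) &&
    (List.range 10).all fun x => Nat.blt (genIx.getD x 44) 44 &&
      Nat.beq (closPts.getD (genIx.getD x 44) 31671) (genPts.getD x 31671)

/-- The words for two points give transpositions differing from the first. -/
noncomputable def sepK : Bool :=
  sepHalf.all fun r => halfK r.1 r.2 &&
    [0, 1].any fun u =>
      !(Nat.beq (PTab.runL (List.replicate 9 prodE7) u) (table.imgW (fullWord r.2) u))

end CfsgLib.Sporadic.CosetCert.Fi23P.OutFi
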