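import Cfsg.Agent.Lib.Sporadic.Fi23Out.Defs

/-!
The set of candidates.
-/

set_option autoImplicit false
set_option maxRecDepth 100000
set_option maxHeartbeats 0

namespace CfsgLib.Sporadic.CosetCert.Fi23P.OutFi

theorem cand_ok : candK = true := by decide +kernel

end CfsgLib.Sporadic.CosetCert.Fi23P.OutFi
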