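import Cfsg.Agent.Lib.Sporadic.Fi23Out.Inj
import Cfsg.Agent.Lib.Sporadic.Fi23Out.CheckFix
import Cfsg.Agent.Lib.Sporadic.Fi23Out.CheckScanA
import Cfsg.Agent.Lib.Sporadic.Fi23Out.CheckScanB
import Cfsg.Agent.Lib.Sporadic.Fi23Out.CheckCand
import Cfsg.Agent.Lib.Sporadic.Fi23Out.CheckTests

/-!
An automorphism of Fi23 fixing the three transpositions and sending the element of order thirteen to itself
or to its square is conjugation by a power of that element.
-/

set_option autoImplicit false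
set_option maxRecDepth 100000

open Cfsg.Spor

namespace CfsgLib.Sporadic.CosetCert.Fi23P.OutFi

open Fi23Data (table forestH fastRows)
open Two (el el_img el_append el_nil el_single el_reverse dp dp_eq conj_dp comm_of_fix gen_eq_dp gpt gpt_val
  genPts eq_one_of_fix eq_of_sameK sameK)

attribute [local irreducible] PTab.img Forest.cls

theorem runL_rows {w : List ℕ} (hw : w.all (fun x => Nat.blt x 10) = true) {u : ℕ} (hu : u < table.N) :
    PTab.runL (rowsOf w) u = table.imgW w u :=
  ((Fi23Data.imgW_fast w hw u hu).1).symm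

theorem tW_lt : ∀ x ∈ tW, x < 10 := by decide

theorem tPow_lt (i : ℕ) : ∀ x ∈ tPow i, x < 10 := by
  intro x hx
  obtain ⟨l, hl, hx⟩ := List.mem_flatten.1 hx
  rw [List.eq_of_mem_replicate hl] at hx
  exact tW_lt x hx

/-- The element of order thirteen. -/
noncomputable def T : Fi23 := el tW

theorem el_tPow (i : ℕ) : el (tPow i) = T ^ i := by
  induction i with
  | zero => exact el_nil
  | succ i ih =>
    rw [tPow, List.replicate_succ, List.flatten_cons, el_append]
    show el (tPow i) * T = _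
    rw [ih, pow_succ]

theorem T_pow13 : T ^ 13 = 1 := by
  rw [← el_tPow, ← el_nil]
  exact eq_of_sameK (tPow_lt 13) (by simp) (by decide +kernel)

theorem T_ne_one : T ≠ 1 := by
  intro e
  have h := congrArg (fun g => ((hom g (gpt 0) : Fin table.N) : ℕ)) e
  simp only [T, el_img tW_lt, map_one, Equiv.Perm.one_apply, gpt_val (show 0 < 10 by norm_num)] at h
  revert h
  decide +kernel

theorem orderOf_T : orderOf T = 13 := by
  have : Fact (Nat.Prime 13) := ⟨by norm_num⟩
  exact orderOf_eq_prime T_pow13 T_ne_one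

theorem T_pow_mod (k : ℕ) : T ^ (k % 13) = T ^ k := by rw [← orderOf_T, pow_mod_orderOf]

theorem trip_lt : ∀ k < 3, trip.getD k 31671 < table.N := by decide +kernel

/-- The three fixed points. -/
noncomputable def P (k : Fin 3) : Fin table.N := ⟨trip.getD k 31671, trip_lt k k.2⟩

theorem P_inj : Function.Injective P := by
  intro a b h
  have h' : trip.getD a 31671 = trip.getD b 31671 := congrArg Fin.val h
  revert h'
  revert a b
  decide

theorem P_zero : P 0 = pt := rfl

theorem trip_spec (c : Fin 3) : halfK (P c) (tripHalf.getD c ([], 0)) = true ∧ hom T (P c) = P c ∧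
    ∀ k : Fin 3, table.imgW (tripWord c) (P k) =
      trip.getD (bif Nat.beq (k : ℕ) c then (k : ℕ) else 3 - c - k) 31671 := by
  have h := List.all_eq_true.1 trip_ok c (List.mem_range.2 c.2)
  simp only [Bool.and_eq_true, List.all_eq_true, List.mem_range] at h
  refine ⟨h.1.1, Fin.ext ?_, fun k => Nat.eq_of_beq_eq_true (h.2 k k.2)⟩
  rw [T, el_img tW_lt]
  exact Nat.eq_of_beq_eq_true h.1.2

theorem dp_P_word (c : Fin 3) : dp (P c) = el (tripWord c) := dp_of_half (trip_spec c).1

theorem tripWord_lt (c : Fin 3) : ∀ x ∈ tripWord c, x < 10 := fullWord_lt (trip_spec c).1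

/-- The permutations of three places induced by the three transpositions. -/
def sw (c k : Fin 3) : Fin 3 := if k = c then k else -(c + k)

theorem sw_val : ∀ c k : Fin 3, (sw c k : ℕ) = bif Nat.beq (k : ℕ) c then (k : ℕ) else 3 - c - k := by decide

theorem dp_P_apply (c k : Fin 3) : hom (dp (P c)) (P k) = P (sw c k) := by
  refine Fin.ext ?_
  rw [dp_P_word, el_img (tripWord_lt c), (trip_spec c).2.2 k]
  show _ = trip.getD (sw c k : ℕ) 31671
  rw [sw_val]

theorem T_comm_P (c : Fin 3) : Commute T (dp (P c)) := comm_of_fix (trip_spec c).2.1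

theorem fixT {u : Fin table.N} (h : hom T u = u) : ∃ c, u = P c := by
  have hfix : PTab.runL (rowsOf tW) u = u := by
    rw [runL_rows (by decide) u.2, ← el_img tW_lt]
    exact congrArg Fin.val h
  have key : ∀ {s n : ℕ}, fixTK s n = true → s ≤ u.1 → u.1 < s + n → ∃ c, u = P c := by
    intro s n hK h1 h2
    have h3 := List.all_eq_true.1 hK (u.1 - s) (List.mem_range.2 (by omega))
    rw [show s + (u.1 - s) = u.1 by omega, Nat.beq_eq.mpr hfix] at h3
    have h4 : (u : ℕ) ∈ trip := by simpa using h3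
    obtain ⟨i, hi, e⟩ := List.mem_iff_getElem.1 h4
    have hi3 : i < 3 := hi
    refine ⟨⟨i, hi3⟩, Fin.ext ?_⟩
    show (u : ℕ) = trip.getD i 31671
    rw [List.getD_eq_getElem _ _ hi, e]
  have hN : table.N = 31671 := rfl
  have hu := u.2
  rcases lt_or_ge u.1 8000 with h1 | h1
  · exact key fixT0 (Nat.zero_le _) (by omega)
  rcases lt_or_ge u.1 16000 with h2 | h2
  · exact key fixT1 h1 (by omega)
  rcases lt_or_ge u.1 24000 with h3 | h3
  · exact key fixT2 h2 (by omega)
  exact key fixT3 h3 (by omega)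

theorem scan_spec {v : Fin table.N} (hne : v ≠ pt) (h0 : hom (dp (P 0)) v = v)
    (h1 : hom (dp (P 1)) v ≠ v) : Nat.testBit candB v = true := by
  have e0 : PTab.runL (List.replicate 9 Fi23Data.prodE7) v = v := by
    rw [← zz_img, ← P_zero, h0]
  have e1 : PTab.runL (rowsOf (tripWord 1)) v ≠ v := by
    rw [runL_rows (by decide) v.2]
    refine fun e => h1 (Fin.ext ?_)
    rw [dp_P_word, el_img (tripWord_lt 1)]
    exact e
  have key : ∀ {s n : ℕ}, scanK s n = true → s ≤ v.1 → v.1 < s + n → Nat.testBit candB v = true := by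
    intro s n hK h2 h3
    have h := List.all_eq_true.1 hK (v.1 - s) (List.mem_range.2 (by omega))
    rw [show s + (v.1 - s) = v.1 by omega, Nat.beq_eq.mpr e0] at h
    simp only [Bool.or_eq_true, Bool.not_true, Bool.false_eq_true, false_or] at h
    rcases h with (h | h) | h
    · exact absurd (Fin.ext (Nat.eq_of_beq_eq_true h)) hne
    · exact absurd (Nat.eq_of_beq_eq_true h) e1
    · exact h
  have hN : table.N = 31671 := rfl
  have hv := v.2
  rcases lt_or_ge v.1 8000 with h2 | h2
  · exact key scan0 (Nat.zero_le _) (by omega)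
  rcases lt_or_ge v.1 16000 with h3 | h3
  · exact key scan1 h2 (by omega)
  rcases lt_or_ge v.1 24000 with h4 | h4
  · exact key scan2 h3 (by omega)
  exact key scan3 h4 (by omega)

theorem testBit_foldr {α : Type*} (f : α → ℕ) (L : List α) (v : ℕ) :
    Nat.testBit (L.foldr (fun a acc => Nat.lor (f a) acc) 0) v = true →
      ∃ a ∈ L, Nat.testBit (f a) v = true := by
  induction L with
  | nil => simp
  | cons a L ih =>
    intro h
    rw [List.foldr_cons] at h
    change Nat.testBit (f a ||| _) v = true at h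
    rw [Nat.testBit_or, Bool.or_eq_true] at h
    rcases h with h | h
    · exact ⟨a, List.mem_cons_self, h⟩
    · obtain ⟨b, hb, hb'⟩ := ih h
      exact ⟨b, List.mem_cons_of_mem _ hb, hb'⟩

theorem cand_spec {v : Fin table.N} (h : Nat.testBit candB v = true) :
    ∃ r ∈ reps, ∃ i, ∃ hr : r.1 < table.N, hom (T ^ i) ⟨r.1, hr⟩ = v := by
  rw [← Nat.eq_of_beq_eq_true cand_ok] at h
  obtain ⟨r, hr, h⟩ := testBit_foldr (fun r : ℕ × List ℕ × ℕ => orbBits r.1) reps v h
  obtain ⟨i, -, h⟩ := testBit_foldr (fun i => Nat.shiftLeft 1 (table.imgW (tPow i) r.1)) (List.range 13) v h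
  have hlt : r.1 < table.N := by
    have := List.all_eq_true.1 rep_ok r hr
    rw [Bool.and_eq_true] at this
    exact Nat.le_of_ble_eq_true this.1
  refine ⟨r, hr, i, hlt, Fin.ext ?_⟩
  rw [← el_tPow, el_img (tPow_lt i)]
  change Nat.testBit (1 <<< table.imgW (tPow i) r.1) v = true at h
  rw [Nat.one_shiftLeft, Nat.testBit_two_pow, decide_eq_true_eq] at h
  exact h

/-- The automorphism sends the transposition of the first point to that of the second. -/
def Corr (β : MulAut Fi23) (u v : Fin table.N) : Prop := β (dp u) = dp v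

theorem Corr.apply {β : MulAut Fi23} {u v : Fin table.N} (h : Corr β u v) (g : Fi23) :
    Corr β (hom g u) (hom (β g) v) := by
  show β _ = _
  rw [← conj_dp, ← conj_dp, map_mul, map_mul, map_inv, h]

theorem Corr.inj {β : MulAut Fi23} {u u' v : Fin table.N} (h : Corr β u v) (h' : Corr β u' v) : u = u' :=
  dp_injective (β.injective (h.trans h'.symm))

theorem Corr.unique {β : MulAut Fi23} {u v v' : Fin table.N} (h : Corr β u v) (h' : Corr β u v') : v = v' :=
  dp_injective (h.symm.trans h')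

theorem Corr.dp_fix {β : MulAut Fi23} {a a' b b' : Fin table.N} (ha : Corr β a a') (hb : Corr β b b') :
    hom (dp a) b = b ↔ hom (dp a') b' = b' := by
  have h := hb.apply (dp a)
  rw [ha] at h
  constructor
  · intro e
    rw [e] at h
    exact h.unique hb
  · intro e
    rw [e] at h
    exact h.inj hb

theorem conj_eq_one {g : Fi23} (h : ∀ x, g * x * g⁻¹ = x) : g = 1 :=
  eq_one_of_fix fun x _ => dp_injective (by rw [← conj_dp, h])

/-- The point of the first generator. -/
noncomputable def sp : Fin table.N := gpt 0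

theorem sp_spec : hom (dp (P 0)) sp = sp ∧ hom (dp (P 1)) sp ≠ sp ∧
    hom (dp sp) (hom (dp (P 1)) (hom (T ^ 5) sp)) = hom (dp (P 1)) (hom (T ^ 5) sp) ∧
    hom (dp sp) (hom (T ^ 4) sp) = hom (T ^ 4) sp ∧
    hom (dp sp) (hom T (hom (dp sp) (hom T sp))) = hom T (hom (dp sp) (hom T sp)) := by
  have hK := self_ok
  simp only [selfK, Bool.and_eq_true] at hK
  obtain ⟨⟨⟨⟨ha, hb⟩, hc⟩, hd⟩, he⟩ := hK
  have hs : dp sp = el [0] := by rw [el_single, sp, gen_eq_dp 0 (by norm_num)]
  have h0 : ∀ x ∈ [0], x < 10 := by simp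
  have hv : (sp : ℕ) = genPts.getD 0 0 := gpt_val (by norm_num)
  refine ⟨Fin.ext ?_, fun e => ?_, Fin.ext ?_, Fin.ext ?_, Fin.ext ?_⟩
  · rw [dp_P_word, el_img (tripWord_lt 0), hv]; exact Nat.eq_of_beq_eq_true hd
  · have h := congrArg Fin.val e
    rw [dp_P_word, el_img (tripWord_lt 1), hv] at h
    rw [show ((1 : Fin 3) : ℕ) = 1 from rfl] at h
    rw [Nat.beq_eq.mpr h] at he
    exact Bool.false_ne_true he
  · rw [hs, el_img h0, dp_P_word, el_img (tripWord_lt 1), ← el_tPow, el_img (tPow_lt 5), hv]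
    exact Nat.eq_of_beq_eq_true ha
  · rw [hs, el_img h0, ← el_tPow, el_img (tPow_lt 4), hv]
    exact Nat.eq_of_beq_eq_true hb
  · rw [show T = el (tPow 1) by rw [el_tPow, pow_one]]
    rw [hs, el_img h0, el_img (tPow_lt 1), el_img h0, el_img (tPow_lt 1), hv]
    exact Nat.eq_of_beq_eq_true hc

theorem fixes_gens {β : MulAut Fi23} (hT : β T = T) (hP : ∀ c, Corr β (P c) (P c)) (hs : Corr β sp sp) :
    ∀ x < 10, Corr β (gpt x) (gpt x) := by
  have hK := clos_ok
  simp only [closK, Bool.and_eq_true, List.all_eq_true, List.mem_range] at hK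
  obtain ⟨⟨⟨h3, h13⟩, h28⟩, h10⟩ := hK
  have hlt : ∀ m < 44, closPts.getD m 31671 < table.N := by decide +kernel
  have key : ∀ m, ∀ (hm : m < 44), Corr β ⟨_, hlt m hm⟩ ⟨_, hlt m hm⟩ := by
    intro m
    induction m using Nat.strong_induction_on with
    | _ m ih =>
      intro hm
      rcases lt_or_ge m 3 with h | h
      · have e : (⟨_, hlt m hm⟩ : Fin table.N) = P ⟨m, h⟩ := Fin.ext (Nat.eq_of_beq_eq_true (h3 m h))
        rw [e]; exact hP _
      rcases lt_or_ge m 16 with h' | h'
      · obtain ⟨i, rfl⟩ : ∃ i, m = 3 + i := ⟨m - 3, by omega⟩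
        have e : (⟨_, hlt _ hm⟩ : Fin table.N) = hom (T ^ i) sp := Fin.ext (by
          rw [← el_tPow, el_img (tPow_lt i), sp, gpt_val (by norm_num)]
          exact Nat.eq_of_beq_eq_true (h13 i (by omega)))
        have := hs.apply (T ^ i)
        rw [map_pow β, hT] at this
        rw [e]; exact this
      · obtain ⟨n, rfl⟩ : ∃ n, m = 16 + n := ⟨m - 16, by omega⟩
        obtain ⟨⟨⟨ha, hb⟩, hh⟩, he⟩ := h28 n (by omega)
        generalize closDer.getD n (44, 44) = d at ha hb hh he
        have ha' : d.1 < 16 + n := Nat.le_of_ble_eq_true ha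
        have hb' : d.2 < 16 + n := Nat.le_of_ble_eq_true hb
        have e : (⟨_, hlt _ hm⟩ : Fin table.N) =
            hom (dp ⟨_, hlt d.1 (by omega)⟩) ⟨_, hlt d.2 (by omega)⟩ := Fin.ext (by
          rw [dp_of_half (p := ⟨_, hlt d.1 (by omega)⟩) hh, el_img (fullWord_lt hh)]
          exact (Nat.eq_of_beq_eq_true he).symm)
        have := (ih d.2 hb' (by omega)).apply (dp ⟨_, hlt d.1 (by omega)⟩)
        rw [ih d.1 ha' (by omega)] at this
        rw [e]; exact this
  intro x hx
  obtain ⟨h1, h2⟩ := h10 x hx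
  have hg : genIx.getD x 44 < 44 := Nat.le_of_ble_eq_true h1
  have e : (⟨_, hlt _ hg⟩ : Fin table.N) = gpt x := Fin.ext (by
    rw [gpt_val hx]
    show closPts.getD _ 31671 = _
    rw [Nat.eq_of_beq_eq_true h2, List.getD_eq_getElem _ _ (show x < genPts.length from hx),
      List.getD_eq_getElem _ _ (show x < genPts.length from hx)])
  exact e ▸ key _ hg

theorem eq_one_of_gens {β : MulAut Fi23} (h : ∀ x < 10, Corr β (gpt x) (gpt x)) : β = 1 := by
  have hle : sub [0, 1, 2, 3, 4, 5, 6, 7, 8, 9] ≤ MonoidHom.eqLocus β.toMonoidHom (MonoidHom.id Fi23) := by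
    refine (Subgroup.closure_le _).2 ?_
    rintro _ ⟨x, hx, rfl⟩
    have hx' : x < 10 := (show ∀ y ∈ [0, 1, 2, 3, 4, 5, 6, 7, 8, 9], y < 10 by decide) x (by simpa using hx)
    show β (coding.gen x) = coding.gen x
    rw [gen_eq_dp x hx']
    exact h x hx'
  exact MulEquiv.ext fun a => hle (sub_all.symm ▸ Subgroup.mem_top a)

theorem core {β : MulAut Fi23} {j : ℕ} (hj : j = 1 ∨ j = 2) (hT : β T = T ^ j)
    (hP : ∀ c, Corr β (P c) (P c)) : j = 1 ∧ ∃ i : ℕ, β = MulAut.conj (T ^ i) := by
  obtain ⟨c, hc⟩ := transitive sp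
  have h0 : Corr β pt pt := P_zero ▸ hP 0
  have hs : Corr β sp (hom (β c) pt) := hc ▸ h0.apply c
  obtain ⟨s0, s1, sA, sB, sC⟩ := sp_spec
  generalize hom (β c) pt = v at hs
  have hne : v ≠ pt := fun e => by
    subst e
    have e' := congrArg Fin.val (hs.inj h0)
    rw [sp, gpt_val (by norm_num)] at e'
    revert e'
    show genPts.getD 0 0 = 0 → False
    decide
  obtain ⟨r, hr, i, hlt, hi⟩ := cand_spec (scan_spec hne ((Corr.dp_fix (hP 0) hs).1 s0)
    (fun e => s1 ((Corr.dp_fix (hP 1) hs).2 e)))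
  let γ : MulAut Fi23 := (MulAut.conj (T ^ i))⁻¹ * β
  have hγ : ∀ g, γ g = (T ^ i)⁻¹ * β g * T ^ i := fun g => by
    show (MulAut.conj (T ^ i))⁻¹ (β g) = _
    rw [MulAut.conj_inv_apply]
  have γT : γ T = T ^ j := by
    rw [hγ, hT, mul_assoc, (Commute.pow_pow_self T j i).eq, inv_mul_cancel_left]
  have γP : ∀ c, Corr γ (P c) (P c) := fun c => by
    show γ _ = _
    rw [hγ, hP c, mul_assoc, ((T_comm_P c).pow_left i).eq.symm, inv_mul_cancel_left]
  have γs : Corr γ sp ⟨r.1, hlt⟩ := by
    show γ _ = _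
    rw [hγ, hs, ← hi, ← conj_dp]
    group
  have γpow : ∀ k, γ (T ^ k) = el (tPow (j * k % 13)) := fun k => by
    rw [map_pow, γT, ← pow_mul, el_tPow, T_pow_mod]
  obtain ⟨hrlt, hh⟩ := Bool.and_eq_true_iff.1 (List.all_eq_true.1 rep_ok r hr)
  have hw : dp ⟨r.1, hlt⟩ = el (fullWord r.2) := dp_of_half hh
  have hwl := fullWord_lt hh
  have tA := (γs.dp_fix ((γs.apply (T ^ 5)).apply (dp (P 1)))).1 sA
  rw [γP 1, γpow, hw] at tA
  have tB := (γs.dp_fix (γs.apply (T ^ 4))).1 sB
  rw [γpow, hw] at tB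
  have tC := (γs.dp_fix (((γs.apply T).apply (dp sp)).apply T)).1 sC
  rw [γs, show γ T = el (tPow (j % 13)) by rw [γT, el_tPow, T_pow_mod], hw] at tC
  have htest : testK j r = true := by
    have a := congrArg Fin.val tA
    have b := congrArg Fin.val tB
    have d := congrArg Fin.val tC
    simp only [el_img hwl, el_img (tPow_lt _), dp_P_word, el_img (tripWord_lt 1)] at a b d
    simp only [testK, Bool.and_eq_true]
    exact ⟨⟨Nat.beq_eq.mpr a, Nat.beq_eq.mpr b⟩, Nat.beq_eq.mpr d⟩
  have hu := unique_ok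
  simp only [uniqueK, List.all_eq_true] at hu
  have hu' := hu j (by rcases hj with rfl | rfl <;> simp) r hr
  rw [htest] at hu'
  simp only [Bool.not_true, Bool.false_or, Bool.and_eq_true] at hu'
  have hj1 : j = 1 := Nat.eq_of_beq_eq_true hu'.1
  have hrs : (⟨r.1, hlt⟩ : Fin table.N) = sp := Fin.ext (by
    rw [sp, gpt_val (by norm_num)]
    exact Nat.eq_of_beq_eq_true hu'.2)
  rw [hrs] at γs
  have hone := eq_one_of_gens (fixes_gens (by rw [γT, hj1, pow_one]) γP γs)
  exact ⟨hj1, i, (inv_mul_eq_one.1 hone).symm⟩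

end CfsgLib.Sporadic.CosetCert.Fi23P.OutFi
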