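import Cfsg.Agent.Lib.Sporadic.Fi23SylowTwo.Points
import Cfsg.Agent.Lib.Sporadic.Fi23Out.Checks

/-!
The transposition of a point determines the point.
-/

set_option autoImplicit false
set_option maxRecDepth 100000

open Cfsg.Spor

namespace CfsgLib.Sporadic.CosetCert.Fi23P.OutFi

open Fi23Data (table forestH prodE7Letters prodE7)
open Two (el el_img el_append el_single el_reverse dp dp_eq conj_dp gen_eq_dp gpt gpt_val genPts)

attribute [local irreducible] PTab.img Forest.cls

theorem hom_inv_apply (g : Fi23) (u : Fin table.N) : hom g⁻¹ (hom g u) = u := by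
  rw [← Equiv.Perm.mul_apply, ← map_mul, inv_mul_cancel, map_one, Equiv.Perm.one_apply]

theorem zz_eq_dp : Two.zz = dp pt := by
  rw [dp_eq (g := 1) (by rw [map_one, Equiv.Perm.one_apply]), one_mul, inv_one, mul_one]

theorem zz_img (u : Fin table.N) :
    ((hom (dp pt) u : Fin table.N) : ℕ) = PTab.runL (List.replicate 9 prodE7) u := by
  rw [← zz_eq_dp, Two.zz_eq, el_img (by decide)]
  exact PTab.imgW_pow Fi23Data.prodE7_eq 9 u u.2

/-- A word made from half of it and a middle letter is the transposition of its point. -/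
theorem dp_of_half {p : Fin table.N} {h : List ℕ × ℕ} (hK : halfK p h = true) :
    dp p = el (fullWord h) := by
  simp only [halfK, Bool.and_eq_true, List.all_eq_true] at hK
  obtain ⟨⟨hx, hL⟩, hp⟩ := hK
  obtain ⟨L, x⟩ := h
  have hx' : x < 10 := Nat.le_of_ble_eq_true hx
  have hL' : ∀ y ∈ L, y < 10 := fun y hy => Nat.le_of_ble_eq_true (hL y hy)
  have hg : hom (el L) p = gpt x := Fin.ext (by
    rw [el_img hL', gpt_val hx', Nat.eq_of_beq_eq_true hp]
    rw [List.getD_eq_getElem _ _ (show x < genPts.length from hx'),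
      List.getD_eq_getElem _ _ (show x < genPts.length from hx')])
  show _ = el (L ++ ([x] ++ L.reverse))
  rw [el_append, el_append, el_single, el_reverse hL', gen_eq_dp x hx', ← hg, ← conj_dp (el L)]
  group

theorem fullWord_lt {p : ℕ} {h : List ℕ × ℕ} (hK : halfK p h = true) : ∀ x ∈ fullWord h, x < 10 := by
  simp only [halfK, Bool.and_eq_true, List.all_eq_true] at hK
  intro y hy
  simp only [fullWord, List.mem_append, List.mem_cons, List.mem_reverse] at hy
  rcases hy with hy | rfl | hy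
  · exact Nat.le_of_ble_eq_true (hK.1.2 y hy)
  · exact Nat.le_of_ble_eq_true hK.1.1
  · exact Nat.le_of_ble_eq_true (hK.1.2 y hy)

theorem count_zero : forestH.count 0 31671 = 1 := by decide +kernel

theorem cls_zero {u : Fin table.N} (hu : forestH.cls u = 0) : u = pt := by
  have h1 : (forestH.classSet table 0).card = 1 := by rw [Forest.card_classSet]; exact count_zero
  obtain ⟨v, hv⟩ := Finset.card_eq_one.1 h1
  have h0 : pt ∈ forestH.classSet table 0 := by
    rw [Forest.mem_classSet]
    show forestH.cls 0 = 0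
    decide +kernel
  have hu' : u ∈ forestH.classSet table 0 := Forest.mem_classSet.2 hu
  rw [hv, Finset.mem_singleton] at h0 hu'
  rw [hu', h0]

theorem sep_ne {r : ℕ × List ℕ × ℕ} (hr : r ∈ sepHalf) (hlt : r.1 < table.N) :
    dp pt ≠ dp ⟨r.1, hlt⟩ := by
  intro e
  have hK := List.all_eq_true.1 sep_ok r hr
  rw [Bool.and_eq_true] at hK
  obtain ⟨u, hu, hne⟩ := List.any_eq_true.1 hK.2
  have hu' : u < table.N := by
    simp only [List.mem_cons, List.not_mem_nil, or_false] at hu
    rcases hu with rfl | rfl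
    · exact lt_of_lt_of_le Nat.two_pos two_le
    · exact two_le
  have h := congrArg (fun g => ((hom g ⟨u, hu'⟩ : Fin table.N) : ℕ)) e
  simp only [zz_img, dp_of_half (p := ⟨r.1, hlt⟩) hK.1, el_img (fullWord_lt hK.1)] at h
  rw [Nat.beq_eq.mpr h] at hne
  exact Bool.false_ne_true hne

theorem dp_pt_ne {b : Fin table.N} (hb : b ≠ pt) : dp pt ≠ dp b := by
  intro e
  have key : ∀ (r : ℕ) (hlt : r < table.N), forestH.cls r = forestH.cls b → dp pt = dp ⟨r, hlt⟩ := by
    intro r hlt hc
    have hm : (⟨r, hlt⟩ : Fin table.N) ∈ MulAction.orbit ((sub lH).map hom) b := by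
      rw [orbit_H b rfl, Finset.mem_coe, Forest.mem_classSet]
      exact hc
    obtain ⟨⟨π, hπ⟩, hmv⟩ := hm
    obtain ⟨k, hk, rfl⟩ := Subgroup.mem_map.1 hπ
    have h1 := congrArg (fun g => k * g * k⁻¹) e
    simp only [conj_dp, hom_fix k hk] at h1
    rw [show hom k b = ⟨r, hlt⟩ from hmv] at h1
    exact h1
  have h3 : forestH.cls b < 3 := by
    have h := Fi23Data.forestH_ok b b.2
    simp only [Forest.pointOK, Bool.and_eq_true, Nat.blt_eq] at h
    exact lt_of_lt_of_le h.1.1 (by decide +kernel)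
  rcases (show forestH.cls b = 0 ∨ forestH.cls b = 1 ∨ forestH.cls b = 2 by omega) with h | h | h
  · exact hb (cls_zero h)
  · have hlt : 52 < table.N := by decide +kernel
    exact sep_ne (r := sepHalf.getD 0 (0, [], 0)) (by decide) hlt
      (key 52 hlt (by rw [h]; decide +kernel))
  · have hlt : 1 < table.N := two_le
    exact sep_ne (r := sepHalf.getD 1 (0, [], 0)) (by decide) hlt
      (key 1 hlt (by rw [h]; decide +kernel))

theorem dp_injective : Function.Injective dp := by
  intro a b e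
  by_contra hne
  obtain ⟨c, hc⟩ := transitive a
  have h0 : hom c⁻¹ a = pt := by rw [← hc, hom_inv_apply]
  have h1 := congrArg (fun g => c⁻¹ * g * c⁻¹⁻¹) e
  simp only [conj_dp, h0] at h1
  exact dp_pt_ne (fun hb => hne ((hom c⁻¹).injective (h0.trans hb.symm))) h1

theorem dp_sq (p : Fin table.N) : dp p * dp p = 1 := by
  obtain ⟨c, hc⟩ := transitive p
  obtain ⟨d, hd⟩ := transitive (gpt 0)
  have e : dp p = c * d⁻¹ * dp (gpt 0) * (c * d⁻¹)⁻¹ := by
    rw [conj_dp, map_mul, Equiv.Perm.mul_apply, show hom d⁻¹ (gpt 0) = pt from by rw [← hd, hom_inv_apply], hc]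
  rw [e, ← gen_eq_dp 0 (by norm_num)]
  calc _ = c * d⁻¹ * (coding.gen 0 * coding.gen 0) * (c * d⁻¹)⁻¹ := by group
    _ = 1 := by rw [Two.gen_sq (by norm_num), mul_one, mul_inv_cancel]

theorem dp_ne_one (p : Fin table.N) : dp p ≠ 1 := by
  intro e
  obtain ⟨q, hq⟩ : ∃ q, q ≠ p := by
    by_cases h : p = pt
    · exact ⟨⟨1, two_le⟩, fun e' => absurd (congrArg Fin.val (e'.trans h)) (by norm_num [pt])⟩
    · exact ⟨pt, fun e' => h e'.symm⟩
  obtain ⟨c, hc⟩ := transitive p
  obtain ⟨d, hd⟩ := transitive q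
  refine hq (dp_injective ?_)
  have : dp q = d * c⁻¹ * dp p * (d * c⁻¹)⁻¹ := by
    rw [conj_dp, map_mul, Equiv.Perm.mul_apply, show hom c⁻¹ p = pt from by rw [← hc, hom_inv_apply], hd]
  rw [this, e, mul_one, mul_inv_cancel]

end CfsgLib.Sporadic.CosetCert.Fi23P.OutFi
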