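import Cfsg.Agent.Lib.Sporadic.Fi23Out.Core
import Cfsg.Agent.Lib.Sporadic.OutCert.Out

/-!
Every automorphism of Fi23 is inner.
-/

set_option autoImplicit false
set_option maxRecDepth 100000

open Cfsg.Spor

namespace CfsgLib.Sporadic.CosetCert.Fi23P.OutFi

open Fi23Data (table)
open Two (el el_img el_append el_reverse dp conj_dp comm_of_fix gen_eq_dp gpt eq_of_sameK sameK)

attribute [local irreducible] PTab.img Forest.cls

theorem three_inv : ∀ f : Fin 3 → Fin 3, (∀ k, f (f k) = k) → (∀ k, f k = k) ∨ ∃ c, ∀ k, f k = sw c k := by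
  decide

theorem three_inj : ∀ f : Fin 3 → Fin 3, (∀ a b, f a = f b → a = b) →
    (∀ k, f k = k) ∨ (∃ a, ∀ k, sw a (f k) = k) ∨ ∃ a b, ∀ k, sw a (sw b (f k)) = k := by
  decide

theorem fix_three {y : Fi23} (hc : Commute y T) (h : ∀ c, hom y (P c) = P c) : ∃ i : ℕ, y = T ^ i := by
  obtain ⟨-, i, hi⟩ := core (β := MulAut.conj y) (j := 1) (Or.inl rfl)
    (by rw [MulAut.conj_apply, hc.eq, mul_inv_cancel_right, pow_one])
    (fun c => by show MulAut.conj y _ = _; rw [MulAut.conj_apply, conj_dp, h c])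
  refine ⟨i, inv_mul_eq_one.1 (conj_eq_one (g := y⁻¹ * T ^ i) fun x => ?_)⟩
  have hx := DFunLike.congr_fun hi x
  simp only [MulAut.conj_apply] at hx
  calc y⁻¹ * T ^ i * x * (y⁻¹ * T ^ i)⁻¹ = y⁻¹ * (T ^ i * x * (T ^ i)⁻¹) * y := by group
    _ = x := by rw [← hx]; group

theorem eq_one_of_sq {x : Fi23} {i : ℕ} (hx : x = T ^ i) (h2 : x * x = 1) : x = 1 := by
  have h13 : x ^ 13 = 1 := by rw [hx, ← pow_mul, mul_comm, pow_mul, T_pow13, one_pow]
  rw [show 13 = 2 * 6 + 1 from rfl, pow_succ, pow_mul, pow_two, h2, one_pow, one_mul] at h13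
  exact h13

/-- The involutions commuting with the element of order thirteen. -/
theorem involution_cent {x : Fi23} (hc : Commute x T) (h2 : x * x = 1) (hne : x ≠ 1) :
    ∃ c, x = dp (P c) := by
  have hex : ∀ k, ∃ c, hom x (P k) = P c := fun k => fixT (by
    rw [← Equiv.Perm.mul_apply, ← map_mul, ← hc.eq, map_mul, Equiv.Perm.mul_apply, (trip_spec k).2.1])
  choose f hf using hex
  have hff : ∀ k, f (f k) = k := fun k => P_inj (by
    rw [← hf, ← hf, ← Equiv.Perm.mul_apply, ← map_mul, h2, map_one, Equiv.Perm.one_apply])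
  rcases three_inv f hff with hid | ⟨c, hcf⟩
  · obtain ⟨i, hi⟩ := fix_three hc (fun c => by rw [hf, hid])
    exact absurd (eq_one_of_sq hi h2) hne
  · have hy : ∀ k, hom (dp (P c) * x) (P k) = P k := fun k => by
      rw [map_mul, Equiv.Perm.mul_apply, hf, hcf, dp_P_apply]
      have : ∀ a b : Fin 3, sw a (sw a b) = b := by decide
      rw [this]
    obtain ⟨i, hi⟩ := fix_three ((T_comm_P c).symm.mul_left hc) hy
    have hx : x = dp (P c) * T ^ i := by rw [← hi, ← mul_assoc, dp_sq, one_mul]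
    have hT2 : T ^ i * T ^ i = 1 := by
      have h3 := ((T_comm_P c).pow_left i).eq
      rw [hx, mul_assoc, ← mul_assoc (T ^ i), h3, mul_assoc, ← mul_assoc (dp (P c)), dp_sq, one_mul] at h2
      exact h2
    exact ⟨c, by rw [hx, eq_one_of_sq rfl hT2, mul_one]⟩

theorem nW_lt : ∀ x ∈ nW, x < 10 := by decide

theorem conj_n : el nW * T * (el nW)⁻¹ = T ^ 4 := by
  rw [← el_tPow, ← el_reverse nW_lt, T, mul_assoc, ← el_append, ← el_append]
  refine eq_of_sameK ?_ (tPow_lt 4) (by decide +kernel)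
  intro x hx
  rcases List.mem_append.1 hx with hx | hx
  · rcases List.mem_append.1 hx with hx | hx
    · exact nW_lt x (List.mem_reverse.1 hx)
    · exact tW_lt x hx
  · exact nW_lt x hx

theorem conj_n_pow (j : ℕ) : ∀ k : ℕ, el nW ^ k * T ^ j * (el nW ^ k)⁻¹ = T ^ (4 ^ k * j) := by
  intro k
  induction k with
  | zero => simp
  | succ k ih =>
    calc el nW ^ (k + 1) * T ^ j * (el nW ^ (k + 1))⁻¹
        = el nW * (el nW ^ k * T ^ j * (el nW ^ k)⁻¹) * (el nW)⁻¹ := by rw [pow_succ']; group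
      _ = (el nW * T * (el nW)⁻¹) ^ (4 ^ k * j) := by rw [ih, conj_pow]
      _ = T ^ (4 ^ (k + 1) * j) := by rw [conj_n, ← pow_mul]; ring_nf

theorem residues : ∀ j < 13, 0 < j → ∃ k < 6, 4 ^ k * j % 13 = 1 ∨ 4 ^ k * j % 13 = 2 := by decide

theorem aut_inner (α : MulAut Fi23) : α ∈ Cfsg.Inn Fi23 := by
  have := finite
  have : Fact (Nat.Prime 13) := ⟨by norm_num⟩
  have h13 : ¬ 13 ^ 2 ∣ Nat.card Fi23 := by rw [card_eq.1]; norm_num
  obtain ⟨g, j, hj0, hj13, hg⟩ := OutCert.exists_conj_pow h13 orderOf_T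
    ((MulEquiv.orderOf_eq α T).trans orderOf_T)
  obtain ⟨k, -, hk⟩ := residues j hj13 hj0
  obtain ⟨β, hβI, hβT⟩ : ∃ β : MulAut Fi23, β * α⁻¹ ∈ Cfsg.Inn Fi23 ∧
      β T = T ^ (4 ^ k * j % 13) := by
    refine ⟨MulAut.conj (el nW ^ k * g) * α, by rw [mul_inv_cancel_right]; exact ⟨_, rfl⟩, ?_⟩
    show MulAut.conj (el nW ^ k * g) (α T) = _
    rw [T_pow_mod, ← conj_n_pow, ← hg, MulAut.conj_apply]
    group
  generalize 4 ^ k * j % 13 = j' at hk hβT
  have himg : ∀ c, ∃ d, β (dp (P c)) = dp (P d) := fun c => by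
    have h1 : Commute (β (dp (P c))) (T ^ j') := hβT ▸ ((T_comm_P c).map β.toMonoidHom).symm
    have h2 : Commute (β (dp (P c))) T := by
      rcases hk with rfl | rfl
      · rwa [pow_one] at h1
      · have h3 := h1.pow_right 7
        rwa [← pow_mul, show 2 * 7 = 13 + 1 from rfl, pow_succ, T_pow13, one_mul] at h3
    exact involution_cent h2 (by rw [← map_mul, dp_sq, map_one]) (by
      rw [Ne, EmbeddingLike.map_eq_one_iff]
      exact dp_ne_one _)
  choose f hf using himg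
  have hinj : ∀ a b, f a = f b → a = b := fun a b e =>
    P_inj (dp_injective (β.injective ((hf a).trans (e ▸ (hf b).symm))))
  obtain ⟨σ, hσT, hσP⟩ : ∃ σ, Commute T σ ∧ ∀ c, hom σ (P (f c)) = P c := by
    rcases three_inj f hinj with h | ⟨a, h⟩ | ⟨a, b, h⟩
    · exact ⟨1, Commute.one_right _, fun c => by rw [map_one, Equiv.Perm.one_apply, h]⟩
    · exact ⟨dp (P a), T_comm_P a, fun c => by rw [dp_P_apply, h]⟩
    · exact ⟨dp (P a) * dp (P b), (T_comm_P a).mul_right (T_comm_P b), fun c => by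
        rw [map_mul, Equiv.Perm.mul_apply, dp_P_apply, dp_P_apply, h]⟩
  obtain ⟨-, i, hi⟩ := core (β := MulAut.conj σ * β) hk
    (by
      show MulAut.conj σ (β T) = _
      rw [hβT, MulAut.conj_apply, ((hσT.pow_left j').symm).eq, mul_inv_cancel_right])
    (fun c => by
      show MulAut.conj σ (β (dp (P c))) = _
      rw [hf, MulAut.conj_apply, conj_dp, hσP])
  have hβ : β ∈ Cfsg.Inn Fi23 := by
    rw [show β = (MulAut.conj σ)⁻¹ * MulAut.conj (T ^ i) from eq_inv_mul_of_mul_eq hi]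
    exact mul_mem (inv_mem ⟨_, rfl⟩) ⟨_, rfl⟩
  simpa using mul_mem (inv_mem hβI) hβ

theorem card_out : Nat.card (Cfsg.Out Fi23) = 1 := by
  have : Subsingleton (Cfsg.Out Fi23) := ⟨fun x y => by
    obtain ⟨α, rfl⟩ := QuotientGroup.mk_surjective x
    obtain ⟨β, rfl⟩ := QuotientGroup.mk_surjective y
    exact ((QuotientGroup.eq_one_iff α).2 (aut_inner α)).trans
      ((QuotientGroup.eq_one_iff β).2 (aut_inner β)).symm⟩
  exact Nat.card_unique

end CfsgLib.Sporadic.CosetCert.Fi23P.OutFi
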